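import Mathlib

/-!
# `6.A₇` in dimension twelve, characteristic five: the explicit matrices (helper108)

Over `Ra = F₅[w]`, `w² + w + 1 = 0`: `V_s G = G (A_s ⊗ B_s)` for the four generators.
-/

set_option autoImplicit false
set_option linter.unusedSectionVars false
set_option maxRecDepth 100000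

namespace Cfsg.Agent.H108.TK.Five

open Matrix
open scoped Kronecker

/-- `F₅[w]`, `w² = -1 - w` -/
abbrev Ra : Type := QuadraticAlgebra (ZMod 5) (-1) (-1)

def w : Ra := ⟨0, 1⟩

def Aa : Matrix (Fin 3) (Fin 3) Ra := !![1, 0, 0; 0, w, 0; 0, 0, w ^ 2]
def Ab : Matrix (Fin 3) (Fin 3) Ra := !![0, 0, 1; 1, 0, 0; 0, 1, 0]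
def Ak : Matrix (Fin 3) (Fin 3) Ra := !![1, 0, 0; 0, -1, 0; 0, 0, -1]
def Ag : Matrix (Fin 3) (Fin 3) Ra := !![⟨3, 1⟩, ⟨3, 1⟩, ⟨3, 1⟩;
    ⟨3, 1⟩, ⟨3, 2⟩, ⟨4, 2⟩;
    ⟨3, 1⟩, ⟨4, 2⟩, ⟨3, 2⟩]
def Ba : Matrix (Fin 4) (Fin 4) Ra := !![⟨0, 1⟩, ⟨0, 0⟩, ⟨0, 0⟩, ⟨0, 0⟩;
    ⟨0, 0⟩, ⟨4, 4⟩, ⟨0, 0⟩, ⟨0, 0⟩;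
    ⟨0, 0⟩, ⟨0, 0⟩, ⟨4, 4⟩, ⟨0, 0⟩;
    ⟨0, 0⟩, ⟨0, 0⟩, ⟨0, 0⟩, ⟨0, 1⟩]
def Bb : Matrix (Fin 4) (Fin 4) Ra := !![⟨0, 1⟩, ⟨0, 0⟩, ⟨0, 0⟩, ⟨0, 0⟩;
    ⟨0, 0⟩, ⟨0, 1⟩, ⟨0, 0⟩, ⟨0, 0⟩;
    ⟨0, 0⟩, ⟨0, 0⟩, ⟨4, 4⟩, ⟨0, 0⟩;
    ⟨0, 0⟩, ⟨0, 0⟩, ⟨0, 0⟩, ⟨4, 4⟩]
def Bk : Matrix (Fin 4) (Fin 4) Ra := !![⟨3, 1⟩, ⟨0, 0⟩, ⟨0, 0⟩, ⟨0, 2⟩;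
    ⟨0, 0⟩, ⟨3, 1⟩, ⟨2, 2⟩, ⟨0, 0⟩;
    ⟨0, 0⟩, ⟨0, 2⟩, ⟨2, 4⟩, ⟨0, 0⟩;
    ⟨2, 2⟩, ⟨0, 0⟩, ⟨0, 0⟩, ⟨2, 4⟩]
def Bg : Matrix (Fin 4) (Fin 4) Ra := !![⟨0, 0⟩, ⟨0, 0⟩, ⟨0, 0⟩, ⟨4, 0⟩;
    ⟨1, 0⟩, ⟨0, 0⟩, ⟨0, 0⟩, ⟨0, 0⟩;
    ⟨0, 0⟩, ⟨1, 0⟩, ⟨0, 0⟩, ⟨0, 0⟩;
    ⟨0, 0⟩, ⟨0, 0⟩, ⟨1, 0⟩, ⟨0, 0⟩]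
def d0 : Matrix (Fin 2) (Fin 2) Ra := !![⟨3, 1⟩, ⟨3, 1⟩;
    ⟨1, 2⟩, ⟨2, 4⟩]
def d1 : Matrix (Fin 2) (Fin 2) Ra := !![⟨3, 1⟩, ⟨4, 2⟩;
    ⟨1, 4⟩, ⟨2, 4⟩]
def d2 : Matrix (Fin 2) (Fin 2) Ra := !![⟨3, 1⟩, ⟨3, 2⟩;
    ⟨3, 4⟩, ⟨2, 4⟩]
def x4 : Matrix (Fin 4) (Fin 4) Ra := !![⟨0, 0⟩, ⟨1, 0⟩, ⟨0, 0⟩, ⟨4, 2⟩;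
    ⟨2, 0⟩, ⟨0, 0⟩, ⟨4, 1⟩, ⟨4, 2⟩;
    ⟨2, 1⟩, ⟨3, 4⟩, ⟨1, 1⟩, ⟨4, 3⟩;
    ⟨3, 2⟩, ⟨0, 0⟩, ⟨3, 0⟩, ⟨4, 4⟩]

def G12 : Matrix (Fin 12) (Fin 12) Ra := !![⟨0, 0⟩, ⟨0, 0⟩, ⟨0, 0⟩, ⟨0, 0⟩, ⟨0, 0⟩, ⟨3, 0⟩, ⟨2, 1⟩, ⟨0, 0⟩, ⟨1, 0⟩, ⟨0, 0⟩, ⟨0, 0⟩, ⟨2, 3⟩;
    ⟨0, 0⟩, ⟨0, 0⟩, ⟨0, 0⟩, ⟨0, 0⟩, ⟨0, 0⟩, ⟨1, 2⟩, ⟨0, 1⟩, ⟨0, 0⟩, ⟨3, 2⟩, ⟨0, 0⟩, ⟨0, 0⟩, ⟨0, 2⟩;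
    ⟨0, 0⟩, ⟨0, 0⟩, ⟨0, 0⟩, ⟨0, 0⟩, ⟨0, 0⟩, ⟨0, 1⟩, ⟨1, 4⟩, ⟨0, 0⟩, ⟨3, 3⟩, ⟨0, 0⟩, ⟨0, 0⟩, ⟨4, 2⟩;
    ⟨0, 0⟩, ⟨0, 0⟩, ⟨0, 0⟩, ⟨0, 0⟩, ⟨0, 0⟩, ⟨1, 3⟩, ⟨1, 1⟩, ⟨0, 0⟩, ⟨3, 4⟩, ⟨0, 0⟩, ⟨0, 0⟩, ⟨3, 0⟩;
    ⟨4, 4⟩, ⟨0, 0⟩, ⟨0, 0⟩, ⟨2, 4⟩, ⟨0, 0⟩, ⟨0, 0⟩, ⟨0, 0⟩, ⟨0, 0⟩, ⟨0, 0⟩, ⟨2, 2⟩, ⟨4, 1⟩, ⟨0, 0⟩;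
    ⟨4, 2⟩, ⟨0, 0⟩, ⟨0, 0⟩, ⟨3, 3⟩, ⟨0, 0⟩, ⟨0, 0⟩, ⟨0, 0⟩, ⟨0, 0⟩, ⟨0, 0⟩, ⟨1, 4⟩, ⟨4, 4⟩, ⟨0, 0⟩;
    ⟨0, 2⟩, ⟨0, 0⟩, ⟨0, 0⟩, ⟨3, 2⟩, ⟨0, 0⟩, ⟨0, 0⟩, ⟨0, 0⟩, ⟨0, 0⟩, ⟨0, 0⟩, ⟨1, 0⟩, ⟨1, 2⟩, ⟨0, 0⟩;
    ⟨1, 2⟩, ⟨0, 0⟩, ⟨0, 0⟩, ⟨0, 3⟩, ⟨0, 0⟩, ⟨0, 0⟩, ⟨0, 0⟩, ⟨0, 0⟩, ⟨0, 0⟩, ⟨2, 4⟩, ⟨4, 0⟩, ⟨0, 0⟩;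
    ⟨0, 0⟩, ⟨0, 3⟩, ⟨4, 3⟩, ⟨0, 0⟩, ⟨0, 1⟩, ⟨0, 0⟩, ⟨0, 0⟩, ⟨1, 3⟩, ⟨0, 0⟩, ⟨0, 0⟩, ⟨0, 0⟩, ⟨0, 0⟩;
    ⟨0, 0⟩, ⟨3, 4⟩, ⟨1, 0⟩, ⟨0, 0⟩, ⟨3, 1⟩, ⟨0, 0⟩, ⟨0, 0⟩, ⟨2, 0⟩, ⟨0, 0⟩, ⟨0, 0⟩, ⟨0, 0⟩, ⟨0, 0⟩;
    ⟨0, 0⟩, ⟨4, 4⟩, ⟨3, 4⟩, ⟨0, 0⟩, ⟨2, 0⟩, ⟨0, 0⟩, ⟨0, 0⟩, ⟨3, 1⟩, ⟨0, 0⟩, ⟨0, 0⟩, ⟨0, 0⟩, ⟨0, 0⟩;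
    ⟨0, 0⟩, ⟨2, 3⟩, ⟨0, 4⟩, ⟨0, 0⟩, ⟨1, 4⟩, ⟨0, 0⟩, ⟨0, 0⟩, ⟨2, 2⟩, ⟨0, 0⟩, ⟨0, 0⟩, ⟨0, 0⟩, ⟨0, 0⟩]
def Gi12 : Matrix (Fin 12) (Fin 12) Ra := !![⟨0, 0⟩, ⟨0, 0⟩, ⟨0, 0⟩, ⟨0, 0⟩, ⟨3, 0⟩, ⟨3, 1⟩, ⟨0, 3⟩, ⟨4, 2⟩, ⟨0, 0⟩, ⟨0, 0⟩, ⟨0, 0⟩, ⟨0, 0⟩;
    ⟨0, 0⟩, ⟨0, 0⟩, ⟨0, 0⟩, ⟨0, 0⟩, ⟨0, 0⟩, ⟨0, 0⟩, ⟨0, 0⟩, ⟨0, 0⟩, ⟨1, 0⟩, ⟨2, 1⟩, ⟨4, 4⟩, ⟨4, 3⟩;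
    ⟨0, 0⟩, ⟨0, 0⟩, ⟨0, 0⟩, ⟨0, 0⟩, ⟨0, 0⟩, ⟨0, 0⟩, ⟨0, 0⟩, ⟨0, 0⟩, ⟨1, 3⟩, ⟨4, 4⟩, ⟨4, 3⟩, ⟨0, 2⟩;
    ⟨0, 0⟩, ⟨0, 0⟩, ⟨0, 0⟩, ⟨0, 0⟩, ⟨4, 1⟩, ⟨2, 2⟩, ⟨3, 1⟩, ⟨1, 0⟩, ⟨0, 0⟩, ⟨0, 0⟩, ⟨0, 0⟩, ⟨0, 0⟩;
    ⟨0, 0⟩, ⟨0, 0⟩, ⟨0, 0⟩, ⟨0, 0⟩, ⟨0, 0⟩, ⟨0, 0⟩, ⟨0, 0⟩, ⟨0, 0⟩, ⟨0, 3⟩, ⟨4, 2⟩, ⟨2, 2⟩, ⟨3, 2⟩;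
    ⟨0, 1⟩, ⟨4, 1⟩, ⟨1, 0⟩, ⟨2, 1⟩, ⟨0, 0⟩, ⟨0, 0⟩, ⟨0, 0⟩, ⟨0, 0⟩, ⟨0, 0⟩, ⟨0, 0⟩, ⟨0, 0⟩, ⟨0, 0⟩;
    ⟨2, 4⟩, ⟨0, 1⟩, ⟨4, 1⟩, ⟨2, 0⟩, ⟨0, 0⟩, ⟨0, 0⟩, ⟨0, 0⟩, ⟨0, 0⟩, ⟨0, 0⟩, ⟨0, 0⟩, ⟨0, 0⟩, ⟨0, 0⟩;
    ⟨0, 0⟩, ⟨0, 0⟩, ⟨0, 0⟩, ⟨0, 0⟩, ⟨0, 0⟩, ⟨0, 0⟩, ⟨0, 0⟩, ⟨0, 0⟩, ⟨2, 1⟩, ⟨0, 3⟩, ⟨3, 2⟩, ⟨4, 4⟩;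
    ⟨2, 2⟩, ⟨3, 2⟩, ⟨3, 0⟩, ⟨3, 1⟩, ⟨0, 0⟩, ⟨0, 0⟩, ⟨0, 0⟩, ⟨0, 0⟩, ⟨0, 0⟩, ⟨0, 0⟩, ⟨0, 0⟩, ⟨0, 0⟩;
    ⟨0, 0⟩, ⟨0, 0⟩, ⟨0, 0⟩, ⟨0, 0⟩, ⟨4, 4⟩, ⟨4, 3⟩, ⟨0, 1⟩, ⟨4, 1⟩, ⟨0, 0⟩, ⟨0, 0⟩, ⟨0, 0⟩, ⟨0, 0⟩;
    ⟨0, 0⟩, ⟨0, 0⟩, ⟨0, 0⟩, ⟨0, 0⟩, ⟨2, 3⟩, ⟨1, 0⟩, ⟨2, 1⟩, ⟨3, 3⟩, ⟨0, 0⟩, ⟨0, 0⟩, ⟨0, 0⟩, ⟨0, 0⟩;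
    ⟨4, 3⟩, ⟨3, 0⟩, ⟨4, 2⟩, ⟨0, 1⟩, ⟨0, 0⟩, ⟨0, 0⟩, ⟨0, 0⟩, ⟨0, 0⟩, ⟨0, 0⟩, ⟨0, 0⟩, ⟨0, 0⟩, ⟨0, 0⟩]

abbrev N12 : Type := Fin 3 × Fin 4

/-- the index -/
def ix (p : N12) : Fin 12 := ⟨4 * (p.1 : ℕ) + p.2, by have := p.1.2; have := p.2.2; omega⟩

def G : Matrix N12 N12 Ra := Matrix.of fun p q => G12 (ix p) (ix q)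
def Gi : Matrix N12 N12 Ra := Matrix.of fun p q => Gi12 (ix p) (ix q)

def hi (p : Fin 4) : Fin 2 := ⟨(p : ℕ) / 2, by have := p.2; omega⟩
def lo (p : Fin 4) : Fin 2 := ⟨(p : ℕ) % 2, by omega⟩

def Va : Matrix N12 N12 Ra := Matrix.of fun p q => if p = q then w ^ (p.1 : ℕ) else 0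
def Vb : Matrix N12 N12 Ra := Matrix.of fun p q => if p.1 = q.1 + 1 ∧ p.2 = q.2 then 1 else 0
def dd (i : Fin 3) : Matrix (Fin 2) (Fin 2) Ra := if i = 0 then d0 else if i = 1 then d1 else d2
def Vk : Matrix N12 N12 Ra := Matrix.of fun p q =>
  if p.1 = q.1 ∧ lo p.2 = lo q.2 then dd p.1 (hi p.2) (hi q.2) else 0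
def Vg : Matrix N12 N12 Ra := Matrix.of fun p q => w ^ (2 * (p.1 : ℕ) * (q.1 : ℕ)) * x4 p.2 q.2

theorem G_mul_Gi : G * Gi = 1 := by decide +kernel
theorem Gi_mul_G : Gi * G = 1 := by decide +kernel
theorem ea : Va * G = G * (Aa ⊗ₖ Ba) := by decide +kernel
theorem eb : Vb * G = G * (Ab ⊗ₖ Bb) := by decide +kernel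
theorem ek : Vk * G = G * (Ak ⊗ₖ Bk) := by decide +kernel
theorem eg : Vg * G = G * (Ag ⊗ₖ Bg) := by decide +kernel

/-- conjugation `w ↦ w²` -/
def cj (x : Ra) : Ra := ⟨x.re - x.im, -x.im⟩

theorem uAa : Aaᵀ * Aa.map cj = 1 := by decide +kernel
theorem uAb : Abᵀ * Ab.map cj = 1 := by decide +kernel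
theorem uAk : Akᵀ * Ak.map cj = 1 := by decide +kernel
theorem uAg : Agᵀ * Ag.map cj = 1 := by decide +kernel
theorem uBa : Baᵀ * Ba.map cj = 1 := by decide +kernel
theorem uBb : Bbᵀ * Bb.map cj = 1 := by decide +kernel
theorem uBk : Bkᵀ * Bk.map cj = 1 := by decide +kernel
theorem uBg : Bgᵀ * Bg.map cj = 1 := by decide +kernel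

end Cfsg.Agent.H108.TK.Five
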